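import Groth.Agent.Lib.RHom.K0Dev
import Groth.Agent.Lib.Vol26.CycleSheaf
import Groth.Agent.Lib.CurveCoh17.Bases
import Groth.Agent.Lib.CurveCoh17.TensorExact
import Groth.Agent.Lib.SheafVan16.Noetherian
import Groth.Agent.Lib.LocCoh.ConnDim27
import Groth.Agent.Lib.TensorMod.QCohTensor

/-! `[E ⊗ F] - rk E [F]` lies in dimension `< dim F` in the `K`-group of coherent modules. -/

set_option autoImplicit false
set_option linter.style.haveILetI false
set_option backward.isDefEq.respectTransparency false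
set_option backward.isDefEq.respectTransparency.types false

universe u

open CategoryTheory CategoryTheory.Limits AlgebraicGeometry TopologicalSpace TensorProduct

noncomputable section

attribute [local instance] HasDerivedCategory.standard

namespace Groth.Agent.KRank3

open K0Pt (SupP len)

variable {X : Scheme.{u}} [IsNoetherian X]

/-- The classes in dimension below `r`. -/
def lowDim (X : Scheme.{u}) (r : ℕ) : AddSubgroup (KZero.K0sub (fun M : X.Modules => Coh.IsCoh M)) :=
  AddSubgroup.closure {x | ∃ G : X.Modules, Coh.IsCoh G ∧ topologicalKrullDim (CohB1.support G) < r ∧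
    x = KZero.clSub (fun M : X.Modules => Coh.IsCoh M) G}

/-- The quotient by the classes in dimension below `r`. -/
abbrev modLow (X : Scheme.{u}) (r : ℕ) := KZero.K0sub (fun M : X.Modules => Coh.IsCoh M) ⧸ lowDim X r

/-- The class modulo lower dimension. -/
def cls (r : ℕ) (G : X.Modules) : modLow X r :=
  QuotientAddGroup.mk (KZero.clSub (fun M : X.Modules => Coh.IsCoh M) G)

theorem cls_eq_zero {r : ℕ} {G : X.Modules} (hG : Coh.IsCoh G) (h : topologicalKrullDim (CohB1.support G) < r) :
    cls r G = 0 :=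
  (QuotientAddGroup.eq_zero_iff _).2 (AddSubgroup.subset_closure ⟨G, hG, h, rfl⟩)

theorem cls_add {r : ℕ} {S : ShortComplex X.Modules} (hS : S.ShortExact) (h₁ : Coh.IsCoh S.X₁)
    (h₂ : Coh.IsCoh S.X₂) (h₃ : Coh.IsCoh S.X₃) : cls r S.X₂ = cls r S.X₁ + cls r S.X₃ :=
  (congrArg QuotientAddGroup.mk (K0Cat.clSub_ses (P := fun M : X.Modules => Coh.IsCoh M) S hS h₁ h₂ h₃)).trans
    (QuotientAddGroup.mk_add _ _ _)

theorem dim_closure_lt {y w : X} (hw : w ∈ closure ({y} : Set X)) (hne : w ≠ y) {r : ℕ}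
    (hr : topologicalKrullDim (closure ({y} : Set X)) ≤ r) :
    topologicalKrullDim (closure ({w} : Set X)) < r := by
  have hlt : (⟨closure {w}, isClosed_closure⟩ : Closeds X) < ⟨closure {y}, isClosed_closure⟩ := by
    refine lt_of_le_of_ne (closure_minimal (Set.singleton_subset_iff.2 hw) isClosed_closure) fun e => hne ?_
    have hy : y ∈ closure ({w} : Set X) :=
      (congrArg (fun W : Closeds X => y ∈ (W : Set X)) e).mpr (subset_closure rfl)
    exact ((specializes_iff_mem_closure.2 hw).antisymm (specializes_iff_mem_closure.2 hy)).eq.symm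
  have h := SheafVan16.dim_lt (Z := ⟨closure {y}, isClosed_closure⟩) (Z' := ⟨closure {w}, isClosed_closure⟩)
    isIrreducible_singleton.closure hlt (n := r) hr
  rcases r with _ | m
  · have hb := h.1 rfl
    have hw' : w ∈ closure ({w} : Set X) := subset_closure rfl
    exact absurd hw' fun h' => (congrArg (fun W : Closeds X => w ∈ (W : Set X)) hb).mp h'
  · exact (h.2 m rfl).trans_lt (by exact_mod_cast Nat.lt_succ_self m)

theorem supp_rep (w : X) : CohB1.support (Cyc.closureStructureSheaf w) ⊆ closure {w} := fun _ hy =>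
  (Vol26.specializes_of_nontrivial (not_subsingleton_iff_nontrivial.1 hy)).mem_closure

theorem cls_rep_eq_zero {r : ℕ} {w : X} (h : topologicalKrullDim (closure ({w} : Set X)) < r)
    {G : X.Modules} (hG : Coh.IsCoh G) (hs : CohB1.support G ⊆ closure {w}) : cls r G = 0 :=
  cls_eq_zero hG ((LocCohLib.dim_mono hs).trans_lt h)

/-- On an irreducible closed subset of dimension at most `r` a class is determined by the generic length. -/
theorem cls_eq_len_smul {r : ℕ} {y : X} (hr : topologicalKrullDim (closure ({y} : Set X)) ≤ r)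
    {G : X.Modules} (hG : SupP (closure {y}) G) {n : ℕ} (hn : len y G = n) :
    cls r G = n • cls r (Cyc.closureStructureSheaf y) := by
  let C : Set X := closure {y}
  have hfin : ∀ A : Subtype (SupP C), len y A.1 ≠ ⊤ := fun A =>
    Cyc26.length_stalk_ne_top A.2.1 fun z hz hs =>
      (hs.antisymm (specializes_iff_mem_closure.2 (A.2.2 (not_subsingleton_iff_nontrivial.2 hz)))).eq
  let Φ : KZero.K0sub (SupP C) →+ modLow X r := K0Cat.liftSub (fun A => cls r A.1)
    fun S h₁ h₂ h₃ hS => cls_add hS h₁.1 h₂.1 h₃.1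
  let L : KZero.K0sub (SupP C) →+ ℤ := K0Cat.liftSub (fun A => ((len y A.1).toNat : ℤ))
    fun S h₁ h₂ h₃ hS => by
      obtain ⟨i, e, o⟩ := Cyc26.stalkLin_exact hS y
      show ((len y S.X₂).toNat : ℤ) = (len y S.X₁).toNat + (len y S.X₃).toNat
      rw [show len y S.X₂ = len y S.X₁ + len y S.X₃ from Module.length_eq_add_of_exact _ _ i o e,
        ENat.toNat_add (hfin ⟨_, h₁⟩) (hfin ⟨_, h₃⟩), Nat.cast_add]
  let Ψ : KZero.K0sub (SupP C) →+ modLow X r :=
    (zmultiplesHom _ (cls r (Cyc.closureStructureSheaf y))).comp L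
  have key : Φ = Ψ := by
    let F : {w : X // w ∈ C} → X.Modules := fun w => Cyc.closureStructureSheaf w.1
    have hF : ∀ w, SupP C (F w) := fun w => ⟨Vol26.isCoh_closureStructureSheaf _,
      (supp_rep w.1).trans (closure_minimal (Set.singleton_subset_iff.2 w.2) isClosed_closure)⟩
    refine AddMonoidHom.eq_of_eqOn_dense (K0Pt.closure_eq_top C isClosed_closure F hF fun Z hZ _ hZC z hz =>
      ⟨⟨z, hZC (hz ▸ subset_closure rfl)⟩, (supp_rep z).trans hz.le,
        Vol26.length_closureStructureSheaf_self z⟩) ?_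
    rintro _ ⟨w, rfl⟩
    show Φ _ = zmultiplesHom _ _ (L _)
    rw [K0Cat.liftSub_clSub _ _ (hF w), K0Cat.liftSub_clSub _ _ (hF w)]
    obtain ⟨w, hw⟩ := w
    by_cases hwy : w = y
    · subst hwy
      show cls r (Cyc.closureStructureSheaf w) = zmultiplesHom _ _ ((len w (Cyc.closureStructureSheaf w)).toNat : ℤ)
      rw [len, Vol26.length_closureStructureSheaf_self]
      simp
    · have h0 : len y (Cyc.closureStructureSheaf w) = 0 := by
        refine Module.length_eq_zero_iff.2 ?_
        by_contra hc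
        exact hwy (((specializes_iff_mem_closure.2 hw).antisymm
          (specializes_iff_mem_closure.2 (supp_rep w hc))).eq.symm)
      show cls r (Cyc.closureStructureSheaf w) = zmultiplesHom _ _ ((len y (Cyc.closureStructureSheaf w)).toNat : ℤ)
      rw [h0, cls_rep_eq_zero (dim_closure_lt hw hwy hr) (Vol26.isCoh_closureStructureSheaf _) (supp_rep w)]
      simp
  have h1 := DFunLike.congr_fun key (KZero.clSub (SupP C) G)
  refine ((K0Cat.liftSub_clSub _ _ hG).symm.trans h1).trans ?_
  show zmultiplesHom _ _ (L (KZero.clSub (SupP C) G)) = _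
  rw [show L (KZero.clSub (SupP C) G) = ((len y G).toNat : ℤ) from K0Cat.liftSub_clSub _ _ hG, hn]
  simp

variable {E : X.Modules} {e : ℕ} (hE : FlatMod.IsFinLocFreeOfRank e E)

include hE in
theorem flat_stalk (x : X) : Module.Flat (X.presheaf.stalk x) (E.presheaf.stalk x) := by
  obtain ⟨φ⟩ := CurveCoh17.nonempty_stalk_equiv hE x
  exact Module.Flat.of_linearEquiv φ

include hE in
theorem isCoh_tensor {G : X.Modules} (hG : Coh.IsCoh G) : Coh.IsCoh (CohB1.tensorMod G E) :=
  have h := M1.isFP_of_isFinLocFree (M2.isFinLocFree_of_ofRank hE)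
  ⟨M2.isQCoh_tensor hG.1 (M1.isFP_isQCoh h), M2.isFT_tensor hG.1 (M1.isFP_isQCoh h) hG.2 (M1.isFP_isFT h)⟩

theorem supp_tensor (G : X.Modules) : CohB1.support (CohB1.tensorMod G E) ⊆ CohB1.support G := fun x hx h =>
  hx (by
    haveI := h
    exact (M2.stalkEquiv G E x).toEquiv.subsingleton)

include hE in
theorem len_tensor (y : X) {G : X.Modules} : len y (CohB1.tensorMod G E) = e * len y G := by
  obtain ⟨φ⟩ := CurveCoh17.nonempty_stalk_equiv hE y
  let χ := (M2.stalkEquiv G E y).trans ((TensorProduct.congr (LinearEquiv.refl _ _) φ).trans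
    (TensorProduct.piScalarRight (X.presheaf.stalk y) (X.presheaf.stalk y) (G.presheaf.stalk y) (Fin e)))
  rw [len, χ.length_eq, Module.length_pi_of_fintype]
  simp [len]

include hE in
theorem main {F : X.Modules} (hF : Coh.IsCoh F) {r : ℕ} (hr : topologicalKrullDim (CohB1.support F) ≤ r) :
    cls r (CohB1.tensorMod F E) = e • cls r F := by
  let Z : Set X := CohB1.support F
  have hZ : IsClosed Z := M1.isClosed_support hF.2
  let Φ : KZero.K0sub (SupP Z) →+ modLow X r := K0Cat.liftSub (fun A => cls r A.1)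
    fun S h₁ h₂ h₃ hS => cls_add hS h₁.1 h₂.1 h₃.1
  let Θ : KZero.K0sub (SupP Z) →+ modLow X r := K0Cat.liftSub (fun A => cls r (CohB1.tensorMod A.1 E))
    fun S h₁ h₂ h₃ hS => cls_add (CurveCoh17.shortExact_tensorR hS E (flat_stalk hE))
      (isCoh_tensor hE h₁.1) (isCoh_tensor hE h₂.1) (isCoh_tensor hE h₃.1)
  have key : Θ = e • Φ := by
    let G : {w : X // w ∈ Z} → X.Modules := fun w => Cyc.closureStructureSheaf w.1
    have hG : ∀ w, SupP Z (G w) := fun w => ⟨Vol26.isCoh_closureStructureSheaf _,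
      (supp_rep w.1).trans (closure_minimal (Set.singleton_subset_iff.2 w.2) hZ)⟩
    refine AddMonoidHom.eq_of_eqOn_dense (K0Pt.closure_eq_top Z hZ G hG fun T hT _ hTZ z hz =>
      ⟨⟨z, hTZ (hz ▸ subset_closure rfl)⟩, (supp_rep z).trans hz.le,
        Vol26.length_closureStructureSheaf_self z⟩) ?_
    rintro _ ⟨⟨w, hw⟩, rfl⟩
    show Θ _ = e • Φ _
    rw [K0Cat.liftSub_clSub _ _ (hG ⟨w, hw⟩), K0Cat.liftSub_clSub _ _ (hG ⟨w, hw⟩)]
    have hdim : topologicalKrullDim (closure ({w} : Set X)) ≤ r :=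
      (LocCohLib.dim_mono (closure_minimal (Set.singleton_subset_iff.2 hw) hZ)).trans hr
    exact cls_eq_len_smul hdim ⟨isCoh_tensor hE (Vol26.isCoh_closureStructureSheaf _), (supp_tensor _).trans (supp_rep w)⟩
      (by rw [len_tensor hE, show len w (Cyc.closureStructureSheaf w) = 1 from Vol26.length_closureStructureSheaf_self w, mul_one])
  have hFZ : SupP Z F := ⟨hF, subset_rfl⟩
  have h1 := DFunLike.congr_fun key (KZero.clSub (SupP Z) F)
  refine ((K0Cat.liftSub_clSub _ _ hFZ).symm.trans h1).trans ?_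
  exact congrArg (fun z : modLow X r => e • z) (K0Cat.liftSub_clSub _ _ hFZ)

include hE in
theorem sub_nsmul_mem {F : X.Modules} (hF : Coh.IsCoh F) {r : ℕ} (hr : topologicalKrullDim (CohB1.support F) ≤ r) :
    KZero.clSub (fun M : X.Modules => Coh.IsCoh M) (CohB1.tensorMod E F) -
        e • KZero.clSub (fun M : X.Modules => Coh.IsCoh M) F ∈ lowDim X r := by
  have hc : Coh.IsCoh (CohB1.tensorMod E F) :=
    K0Coh.serre_coh.iso (M2.tensorComm F E) (isCoh_tensor hE hF)
  rw [← QuotientAddGroup.eq_zero_iff, QuotientAddGroup.mk_sub, sub_eq_zero, QuotientAddGroup.mk_nsmul,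
    K0Db.clSub_iso K0Coh.serre_coh (M2.tensorComm E F) hc]
  exact main hE hF hr

end Groth.Agent.KRank3
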